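/-
A finite group in which the derived subgroup is the union of a normal subgroup and a single
conjugacy class, with no further central elements in the quotient, is solvable.
-/
import Cfsg.Agent.FPF4.Count
import Cfsg.Agent.FPF4.CaminaP
import Cfsg.Agent.Transfer.Tate
import Cfsg.Agent.Transfer.MaxClassTwo
import Cfsg.Agent.Chars.Eigen
import Cfsg.Agent.Core.Frattini

set_option autoImplicit false
set_option linter.unusedSectionVars false
set_option linter.style.haveILetI false

namespace Cfsg.Agent.FPF4.OneClass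

open Cfsg
open scoped commutatorElement

universe u

variable {G : Type u} [Group G] [Finite G]

/-- The hypotheses. -/
structure Hyp (g : G) (K : Subgroup G) : Prop where
  normal : K.Normal
  le : K ≤ commutator G
  mem : g ∈ commutator G
  notMem : g ∉ K
  conj : ∀ x ∈ commutator G, x ∉ K → IsConj g x
  cent : ∀ z : G, (∀ h : G, ⁅z, h⁆ ∈ K) → z ∈ commutator G

variable {g : G} {K : Subgroup G}

theorem Hyp.isConj_iff (H : Hyp g K) {x : G} (hx : x ∈ commutator G) (hxK : x ∉ K) (z : G) :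
    IsConj x z ↔ z ∈ commutator G ∧ z ∉ K := by
  haveI := H.normal
  constructor
  · intro h
    obtain ⟨c, rfl⟩ := _root_.isConj_iff.mp h
    refine ⟨Subgroup.Normal.conj_mem inferInstance x hx c, fun hc => hxK ?_⟩
    have := Subgroup.Normal.conj_mem (H := K) inferInstance _ hc c⁻¹
    rwa [show c⁻¹ * (c * x * c⁻¹) * c⁻¹⁻¹ = x by group] at this
  · rintro ⟨hz, hzK⟩
    exact (H.conj x hx hxK).symm.trans (H.conj z hz hzK)

theorem Hyp.orderOf_eq (H : Hyp g K) {x : G} (hx : x ∈ commutator G) (hxK : x ∉ K) :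
    orderOf x = orderOf g := by
  obtain ⟨c, rfl⟩ := _root_.isConj_iff.mp (H.conj x hx hxK)
  rw [← MulAut.conj_apply, MulEquiv.orderOf_eq]

/-- The prime. -/
theorem Hyp.exists_prime (H : Hyp g K) :
    ∃ p : ℕ, p.Prime ∧ (∀ x ∈ commutator G, x ^ p ∈ K) ∧
      ∀ x ∈ commutator G, x ∉ K → ∃ k, orderOf x = p ^ k := by
  haveI := H.normal
  set π := QuotientGroup.mk' K
  have hn1 : orderOf (π g) ≠ 1 := fun h =>
    H.notMem ((QuotientGroup.eq_one_iff g).mp (orderOf_eq_one_iff.mp h))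
  obtain ⟨p, hp, hpd⟩ := Nat.exists_prime_and_dvd hn1
  have hord : orderOf (π g) = p := by
    set j := orderOf (π g) / p
    have ho : orderOf (π g ^ j) = p := orderOf_pow_orderOf_div (orderOf_pos (π g)).ne' hpd
    have hK' : g ^ j ∉ K := fun h => hp.ne_one (ho.symm.trans (orderOf_eq_one_iff.mpr (by
      rw [← map_pow]; exact (QuotientGroup.eq_one_iff (g ^ j)).mpr h)))
    obtain ⟨c, hc⟩ := _root_.isConj_iff.mp (H.conj _ ((commutator G).pow_mem H.mem j) hK')
    rw [← map_pow, ← hc, map_mul, map_mul, map_inv, ← MulAut.conj_apply, MulEquiv.orderOf_eq] at ho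
    exact ho
  have hpow : ∀ x ∈ commutator G, x ^ p ∈ K := by
    intro x hx
    by_cases hxK : x ∈ K
    · exact K.pow_mem hxK p
    obtain ⟨c, hc⟩ := _root_.isConj_iff.mp (H.conj x hx hxK)
    rw [← hc, conj_pow]
    refine Subgroup.Normal.conj_mem inferInstance _ ?_ c
    refine (QuotientGroup.eq_one_iff _).mp ?_
    show π (g ^ p) = 1
    rw [map_pow, ← hord, pow_orderOf_eq_one]
  refine ⟨p, hp, hpow, fun x hx hxK => ?_⟩
  haveI : Fact p.Prime := ⟨hp⟩
  rw [H.orderOf_eq hx hxK]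
  set o := orderOf g
  have ho0 : o ≠ 0 := (orderOf_pos g).ne'
  set m := o / p ^ o.factorization p
  have hm : ¬ p ∣ m := Nat.not_dvd_ordCompl hp ho0
  obtain ⟨s, hs⟩ : ∃ s, (g ^ m) ^ s * g⁻¹ ∈ K := by
    have hcop : m.Coprime (orderOf (π g)) := by
      rw [hord]; exact ((hp.coprime_iff_not_dvd).mpr hm).symm
    obtain ⟨s, hs⟩ := exists_pow_eq_self_of_coprime hcop
    refine ⟨s, (QuotientGroup.eq_one_iff _).mp ?_⟩
    show π ((g ^ m) ^ s * g⁻¹) = 1
    rw [map_mul, map_pow, map_pow, hs, map_inv, mul_inv_cancel]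
  set z := (g ^ m) ^ s
  have hzM : z ∈ commutator G := Subgroup.pow_mem _ (Subgroup.pow_mem _ H.mem _) _
  have hzK : z ∉ K := fun hz => H.notMem (by
    rw [show g = (z * g⁻¹)⁻¹ * z by group]
    exact K.mul_mem (K.inv_mem hs) hz)
  have hz : z ^ p ^ o.factorization p = 1 := by
    rw [← pow_mul, ← pow_mul,
      show m * (s * p ^ o.factorization p) = (p ^ o.factorization p * m) * s by ring,
      Nat.ordProj_mul_ordCompl_eq_self, pow_mul, pow_orderOf_eq_one, one_pow]
  obtain ⟨k, -, hk⟩ := (Nat.dvd_prime_pow hp).mp (orderOf_dvd_of_pow_eq_one hz)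
  exact ⟨k, (H.orderOf_eq hzM hzK).symm.trans hk⟩

/-- If two elements translate a third one by central elements, their commutator fixes it. -/
theorem commute_of_translate {H : Type*} [Group H] {A B X c₁ c₂ : H} (e₁ : A * X * A⁻¹ = X * c₁)
    (e₂ : B * X * B⁻¹ = X * c₂) (k₁ : ∀ z, c₁ * z = z * c₁) (k₂ : ∀ z, c₂ * z = z * c₂) :
    ⁅A, B⁆ * X = X * ⁅A, B⁆ := by
  have f : ∀ W Y c : H, (∀ z, c * z = z * c) → W * (Y * c) * W⁻¹ = W * Y * W⁻¹ * c := by
    intro W Y c k
    calc W * (Y * c) * W⁻¹ = W * Y * (c * W⁻¹) := by group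
      _ = W * Y * W⁻¹ * c := by rw [k W⁻¹, mul_assoc (W * Y)]
  have k₁' : ∀ z, c₁⁻¹ * z = z * c₁⁻¹ := fun z =>
    (show Commute c₁ z from k₁ z).inv_left.eq
  have k₂' : ∀ z, c₂⁻¹ * z = z * c₂⁻¹ := fun z =>
    (show Commute c₂ z from k₂ z).inv_left.eq
  have g₁ : A⁻¹ * X * A⁻¹⁻¹ = X * c₁⁻¹ := by
    calc A⁻¹ * X * A⁻¹⁻¹ = A⁻¹ * (A * X * A⁻¹ * c₁⁻¹) * A⁻¹⁻¹ := by rw [e₁, mul_inv_cancel_right]
      _ = A⁻¹ * (A * X * A⁻¹) * A⁻¹⁻¹ * c₁⁻¹ := f _ _ _ k₁'
      _ = X * c₁⁻¹ := by group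
  have g₂ : B⁻¹ * X * B⁻¹⁻¹ = X * c₂⁻¹ := by
    calc B⁻¹ * X * B⁻¹⁻¹ = B⁻¹ * (B * X * B⁻¹ * c₂⁻¹) * B⁻¹⁻¹ := by rw [e₂, mul_inv_cancel_right]
      _ = B⁻¹ * (B * X * B⁻¹) * B⁻¹⁻¹ * c₂⁻¹ := f _ _ _ k₂'
      _ = X * c₂⁻¹ := by group
  refine mul_inv_eq_iff_eq_mul.mp ?_
  calc ⁅A, B⁆ * X * ⁅A, B⁆⁻¹
      = A * (B * (A⁻¹ * (B⁻¹ * X * B⁻¹⁻¹) * A⁻¹⁻¹) * B⁻¹) * A⁻¹ := by
        rw [commutatorElement_def]; group
    _ = A * (B * (X * c₁⁻¹ * c₂⁻¹) * B⁻¹) * A⁻¹ := by rw [g₂, f _ _ _ k₂', g₁]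
    _ = A * (X * c₂ * c₁⁻¹ * c₂⁻¹) * A⁻¹ := by rw [f _ _ _ k₂', f _ _ _ k₁', e₂]
    _ = X * c₁ * c₂ * c₁⁻¹ * c₂⁻¹ := by rw [f _ _ _ k₂', f _ _ _ k₁', f _ _ _ k₂, e₁]
    _ = X := by
        rw [mul_assoc X c₁ c₂, k₁ c₂]; group

/-- The setting. -/
structure Ctx (g : G) (K : Subgroup G) (p : ℕ) : Prop where
  hyp : Hyp g K
  pow_mem : ∀ x ∈ commutator G, x ^ p ∈ K
  pel : ∀ x ∈ commutator G, x ∉ K → ∃ k, orderOf x = p ^ k

variable {p : ℕ} [hp : Fact p.Prime]

theorem Ctx.commute_mod (C : Ctx g K p) {a b : G} (ha : a ∈ commutator G)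
    (hb : b ∈ commutator G) : ⁅a, b⁆ ∈ K := by
  haveI := C.hyp.normal
  set π := QuotientGroup.mk' K with hπ
  set Mb := (commutator G).map π with hMb
  have hMp : IsPGroup p Mb := fun z => ⟨1, by
    obtain ⟨x, hx, hxe⟩ := z.2
    refine Subtype.ext ?_
    rw [SubmonoidClass.coe_pow, ← hxe, pow_one, ← map_pow]
    exact (QuotientGroup.eq_one_iff _).mpr (C.pow_mem x hx)⟩
  haveI : Nontrivial Mb := ⟨⟨⟨π g, g, C.hyp.mem, rfl⟩, 1, fun h =>
    C.hyp.notMem ((QuotientGroup.eq_one_iff g).mp (congrArg Subtype.val h))⟩⟩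
  obtain ⟨⟨⟨z, x, hx, rfl⟩, hz⟩, hz1⟩ :=
    (nontrivial_iff_exists_ne (1 : Subgroup.center Mb)).mp hMp.center_nontrivial
  have hxK : x ∉ K := fun h =>
    hz1 (Subtype.ext (Subtype.ext ((QuotientGroup.eq_one_iff x).mpr h)))
  have hxc : ∀ m ∈ commutator G, Commute (π x) (π m) := fun m hm =>
    (congrArg Subtype.val (Subgroup.mem_center_iff.mp hz ⟨π m, m, hm, rfl⟩)).symm
  by_cases haK : a ∈ K
  · refine (QuotientGroup.eq_one_iff _).mp ?_
    show π ⁅a, b⁆ = 1
    rw [map_commutatorElement, show π a = 1 from (QuotientGroup.eq_one_iff a).mpr haK,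
      commutatorElement_one_left]
  obtain ⟨c, hc⟩ := _root_.isConj_iff.mp ((C.hyp.isConj_iff hx hxK a).mpr ⟨ha, haK⟩)
  refine (QuotientGroup.eq_one_iff _).mp ?_
  show π ⁅a, b⁆ = 1
  rw [map_commutatorElement, commutatorElement_eq_one_iff_mul_comm, ← hc]
  have hb' : c⁻¹ * b * c ∈ commutator G := by
    have := Subgroup.Normal.conj_mem (H := commutator G) inferInstance b hb c⁻¹
    rwa [inv_inv] at this
  calc π (c * x * c⁻¹) * π b = π c * (π x * π (c⁻¹ * b * c)) * (π c)⁻¹ := by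
        simp only [map_mul, map_inv]; group
    _ = π c * (π (c⁻¹ * b * c) * π x) * (π c)⁻¹ := by rw [(hxc _ hb').eq]
    _ = π b * π (c * x * c⁻¹) := by simp only [map_mul, map_inv]; group

theorem Ctx.eq_one_of_commute (C : Ctx g K p) {x u : G} (hx : x ∈ commutator G) (hxK : x ∉ K)
    (hu : u ∈ K) (hc : Commute x u) (hop : (orderOf u).Coprime p) : u = 1 := by
  obtain ⟨k, hk⟩ := C.pel x hx hxK
  obtain ⟨l, hl⟩ := C.pel (x * u) (mul_mem hx (C.hyp.le hu))
    (fun h => hxK ((K.mul_mem_cancel_right hu).mp h))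
  rw [hc.orderOf_mul_eq_mul_orderOf_of_coprime (by rw [hk]; exact (hop.pow_right k).symm)] at hl
  rw [← orderOf_eq_one_iff]
  exact Nat.eq_one_of_dvd_coprimes (hop.pow_right l) dvd_rfl (hl ▸ dvd_mul_left _ _)

/-- The orders of centralizers. -/
theorem Ctx.mul_le (C : Ctx g K p) (T : Sylow p G) {y : G} (hy : y ∈ commutator G) (hyK : y ∉ K) :
    Nat.card ↥((T : Subgroup G) ⊓ Subgroup.centralizer ({y} : Set G)) *
      Nat.card ↥((T : Subgroup G) ⊓ K) ≤ Nat.card (T : Subgroup G) := by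
  classical
  haveI := Fintype.ofFinite G
  set M := commutator G
  have h1 : (Subgroup.centralizer ({y} : Set G)).index = Nat.card M - Nat.card K := by
    rw [← Chars.card_filter_isConj, Nat.card_eq_fintype_card, Nat.card_eq_fintype_card,
      ← Finset.card_univ (α := M), ← Finset.card_univ (α := K),
      ← Finset.card_map (Function.Embedding.subtype (· ∈ M)) (s := Finset.univ),
      ← Finset.card_map (Function.Embedding.subtype (· ∈ K)) (s := (Finset.univ : Finset K)),
      ← Finset.card_sdiff_of_subset (fun z hz => by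
        obtain ⟨w, -, rfl⟩ := Finset.mem_map.mp hz
        exact Finset.mem_map.mpr ⟨⟨w, C.hyp.le w.2⟩, Finset.mem_univ _, rfl⟩)]
    congr 1
    ext z
    simp only [Finset.mem_filter, Finset.mem_univ, true_and, Finset.mem_sdiff, Finset.mem_map,
      Function.Embedding.coe_subtype, Subtype.exists, exists_prop, exists_eq_right]
    exact C.hyp.isConj_iff hy hyK z
  have h2 : Nat.card K ∣ Nat.card M - Nat.card K :=
    Nat.dvd_sub (Subgroup.card_dvd_of_le C.hyp.le) dvd_rfl
  have h3 : Nat.card ↥((T : Subgroup G) ⊓ Subgroup.centralizer ({y} : Set G)) *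
      Nat.card ↥((T : Subgroup G) ⊓ K) ∣ Nat.card G := by
    rw [← (Subgroup.centralizer ({y} : Set G)).card_mul_index, h1]
    exact Nat.mul_dvd_mul (Subgroup.card_dvd_of_le inf_le_right)
      ((Subgroup.card_dvd_of_le inf_le_right).trans h2)
  obtain ⟨a, ha⟩ := IsPGroup.iff_card.mp
    (T.2.to_le (inf_le_left (b := Subgroup.centralizer ({y} : Set G))))
  obtain ⟨b, hb⟩ := IsPGroup.iff_card.mp (T.2.to_le (inf_le_left (b := K)))
  rw [ha, hb, ← pow_add] at h3 ⊢
  rw [T.card_eq_multiplicity]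
  exact Nat.pow_le_pow_right hp.out.pos
    ((hp.out.pow_dvd_iff_le_factorization Nat.card_pos.ne').mp h3)

/-- The class of a central element modulo the kernel fills its coset. -/
theorem Ctx.full (C : Ctx g K p) (T : Sylow p G) {y : G} (hyT : y ∈ (T : Subgroup G))
    (hy : y ∈ commutator G) (hyK : y ∉ K) (hc : ∀ t ∈ (T : Subgroup G), ⁅y, t⁆ ∈ K)
    {c : G} (hcT : c ∈ (T : Subgroup G)) (hcK : c ∈ K) :
    ∃ t ∈ (T : Subgroup G), t * y * t⁻¹ = y * c := by
  classical
  haveI := C.hyp.normal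
  set Ty := (Subgroup.centralizer ({y} : Set G)).subgroupOf (T : Subgroup G)
  have hmem : ∀ t : (T : Subgroup G), y⁻¹ * ((t : G) * y * (t : G)⁻¹) ∈ (T : Subgroup G) ⊓ K := by
    intro t
    refine ⟨(T : Subgroup G).mul_mem ((T : Subgroup G).inv_mem hyT)
      ((T : Subgroup G).mul_mem ((T : Subgroup G).mul_mem t.2 hyT) ((T : Subgroup G).inv_mem t.2)), ?_⟩
    rw [show y⁻¹ * ((t : G) * y * (t : G)⁻¹) = ⁅y⁻¹, (t : G)⁆ by rw [commutatorElement_def]; group]
    have := Subgroup.Normal.conj_mem (H := K) inferInstance _ (K.inv_mem (hc t t.2)) y⁻¹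
    rwa [show y⁻¹ * ⁅y, (t : G)⁆⁻¹ * y⁻¹⁻¹ = ⁅y⁻¹, (t : G)⁆ by
      simp only [commutatorElement_def]; group] at this
  let f : (T : Subgroup G) ⧸ Ty → ↥((T : Subgroup G) ⊓ K) := fun q => ⟨_, hmem q.out⟩
  have hinj : Function.Injective f := by
    intro a b e
    rw [← QuotientGroup.out_eq' a, ← QuotientGroup.out_eq' b]
    refine QuotientGroup.eq.mpr ?_
    have e' : (a.out : G) * y * (a.out : G)⁻¹ = (b.out : G) * y * (b.out : G)⁻¹ :=
      mul_left_cancel (congrArg Subtype.val e)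
    rw [Subgroup.mem_subgroupOf, Subgroup.mem_centralizer_singleton_iff, Subgroup.coe_mul,
      Subgroup.coe_inv]
    calc (a.out : G)⁻¹ * b.out * y
        = (a.out : G)⁻¹ * ((b.out : G) * y * (b.out : G)⁻¹) * b.out := by group
      _ = y * ((a.out : G)⁻¹ * b.out) := by rw [← e']; group
  have hle : Nat.card ↥((T : Subgroup G) ⊓ K) ≤ Nat.card ((T : Subgroup G) ⧸ Ty) := by
    have h1 := C.mul_le T hy hyK
    have h2 : Nat.card Ty * Ty.index = Nat.card (T : Subgroup G) := Ty.card_mul_index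
    have h3 : Nat.card Ty = Nat.card ↥((T : Subgroup G) ⊓ Subgroup.centralizer ({y} : Set G)) := by
      rw [show Ty = ((T : Subgroup G) ⊓ Subgroup.centralizer ({y} : Set G)).subgroupOf
        (T : Subgroup G) from (Subgroup.inf_subgroupOf_left _ _).symm,
        Core.card_subgroupOf inf_le_left]
    rw [← Subgroup.index_eq_card]
    refine Nat.le_of_mul_le_mul_left ?_ (Nat.card_pos (α := Ty))
    rw [h2, h3]
    exact h1
  obtain ⟨q, hq⟩ := (hinj.bijective_of_nat_card_le hle).2 ⟨c, hcT, hcK⟩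
  refine ⟨q.out, q.out.2, ?_⟩
  have := congrArg Subtype.val hq
  rw [← show y⁻¹ * ((q.out : G) * y * (q.out : G)⁻¹) = c from this, mul_inv_cancel_left]

/-- A Sylow subgroup covers the derived subgroup modulo the kernel. -/
theorem Ctx.exists_sylow_rep (C : Ctx g K p) (T : Sylow p G) {m : G} (hm : m ∈ commutator G) :
    ∃ t ∈ (T : Subgroup G), t ∈ commutator G ∧ t⁻¹ * m ∈ K := by
  haveI := C.hyp.normal
  set π := QuotientGroup.mk' K
  let Tb : Sylow p (G ⧸ K) := T.mapSurjective (QuotientGroup.mk'_surjective K)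
  have hMp : IsPGroup p ((commutator G).map π) := fun z => ⟨1, by
    obtain ⟨x, hx, hxe⟩ := z.2
    refine Subtype.ext ?_
    rw [SubmonoidClass.coe_pow, ← hxe, pow_one, ← map_pow]
    exact (QuotientGroup.eq_one_iff _).mpr (C.pow_mem x hx)⟩
  haveI : ((commutator G).map π).Normal :=
    Subgroup.Normal.map inferInstance π (QuotientGroup.mk'_surjective K)
  have h := hMp.le_sylow_of_normal Tb ⟨m, hm, rfl⟩
  rw [Sylow.coe_mapSurjective] at h
  obtain ⟨t, ht, hte⟩ := h
  have hk : t⁻¹ * m ∈ K := QuotientGroup.eq.mp hte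
  refine ⟨t, ht, ?_, hk⟩
  rw [show t = m * (t⁻¹ * m)⁻¹ by group]
  exact mul_mem hm (inv_mem (C.hyp.le hk))

theorem Ctx.exists_central (C : Ctx g K p) (T : Sylow p G) :
    ∃ y ∈ (T : Subgroup G), y ∈ commutator G ∧ y ∉ K ∧ ∀ t ∈ (T : Subgroup G), ⁅y, t⁆ ∈ K := by
  haveI := C.hyp.normal
  set π := QuotientGroup.mk' K with hπ
  set Tb := (T : Subgroup G).map π
  set Mb := (commutator G).map π
  haveI : Mb.Normal := Subgroup.Normal.map inferInstance π (QuotientGroup.mk'_surjective K)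
  letI : MulAction Tb Mb :=
    MulAction.compHom Mb ((MulAut.conjNormal (H := Mb)).comp Tb.subtype)
  have h1 : (1 : Mb) ∈ MulAction.fixedPoints Tb Mb := fun t =>
    map_one (MulAut.conjNormal (H := Mb) (t : G ⧸ K))
  have hd : p ∣ Nat.card Mb := by
    refine dvd_trans ?_ (orderOf_dvd_natCard (⟨π g, g, C.hyp.mem, rfl⟩ : Mb))
    have hne : π g ≠ 1 := fun h => C.hyp.notMem ((QuotientGroup.eq_one_iff g).mp h)
    exact dvd_of_eq ((orderOf_eq_prime (show π g ^ p = 1 by
      rw [← map_pow]; exact (QuotientGroup.eq_one_iff _).mpr (C.pow_mem g C.hyp.mem)) hne).symm.trans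
      (Subgroup.orderOf_coe (⟨π g, g, C.hyp.mem, rfl⟩ : Mb)))
  obtain ⟨⟨z, x, hx, rfl⟩, hfix, hne⟩ :=
    (T.2.map π).exists_fixed_point_of_prime_dvd_card_of_fixed_point Mb hd h1
  have hxK : x ∉ K := fun h => hne (Subtype.ext ((QuotientGroup.eq_one_iff x).mpr h).symm)
  obtain ⟨y, hyT, hyM, hyK⟩ := C.exists_sylow_rep T hx
  have hye : π y = π x := (QuotientGroup.eq.mpr hyK)
  refine ⟨y, hyT, hyM, fun h => hxK ?_, fun t ht => ?_⟩
  · rw [show x = y * (y⁻¹ * x) by group]
    exact mul_mem h hyK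
  refine (QuotientGroup.eq_one_iff _).mp ?_
  show π ⁅y, t⁆ = 1
  have h2 : π t * π x * (π t)⁻¹ = π x := congrArg Subtype.val (hfix ⟨π t, t, ht, rfl⟩)
  rw [map_commutatorElement, commutatorElement_eq_one_iff_mul_comm, hye]
  exact (mul_inv_eq_iff_eq_mul.mp h2).symm

theorem Ctx.inf_le_commutator (C : Ctx g K p) (T : Sylow p G) :
    K.subgroupOf (T : Subgroup G) ≤ commutator (T : Subgroup G) := by
  rintro ⟨c, hcT⟩ hcK
  obtain ⟨y, hyT, hy, hyK, hc⟩ := C.exists_central T
  obtain ⟨t, ht, hte⟩ := C.full T hyT hy hyK hc hcT (Subgroup.mem_subgroupOf.mp hcK)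
  rw [show (⟨c, hcT⟩ : (T : Subgroup G)) = ⁅(⟨y, hyT⟩ : (T : Subgroup G))⁻¹, ⟨t, ht⟩⁆ from
    Subtype.ext (by
      show c = y⁻¹ * t * y⁻¹⁻¹ * t⁻¹
      calc c = y⁻¹ * (y * c) := by group
        _ = _ := by rw [← hte]; group)]
  exact Subgroup.commutator_mem_commutator trivial trivial

/-- The normal complement in the kernel. -/
theorem Ctx.exists_core (C : Ctx g K p) (T : Sylow p G) :
    ∃ Q : Subgroup G, Q.Normal ∧ Q ≤ K ∧ (Nat.card Q).Coprime p ∧
      ∃ k, Q.relIndex K = p ^ k := by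
  haveI := C.hyp.normal
  have hfr : K ⊓ (T : Subgroup G) ≤ (frattini (T : Subgroup G)).map (T : Subgroup G).subtype := by
    intro c hc
    refine ⟨⟨c, hc.2⟩, ?_, rfl⟩
    haveI : Group.IsNilpotent (T : Subgroup G) := T.2.isNilpotent
    exact Core.commutator_le_frattini_of_isNilpotent (C.inf_le_commutator T (Subgroup.mem_subgroupOf.mpr hc.1))
  obtain ⟨P, N, hN, hcompl⟩ := Transfer.hasNormalPComplement_of_inf_le_frattini T K hfr
  refine ⟨(pPrimeCore p K).map K.subtype, Core.normal_map_subtype_of_characteristic _,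
    Subgroup.map_subtype_le _, ?_, ?_⟩
  · rw [Core.card_map_subtype]; exact Core.card_pPrimeCore_coprime p K
  · have hNle : N ≤ pPrimeCore p K := by
      refine Core.le_pPrimeCore hN ?_
      rw [← hcompl.index_eq_card]
      exact ((hp.out.coprime_iff_not_dvd).mpr P.not_dvd_index).symm
    have hidx : N.index = Nat.card (P : Subgroup K) := hcompl.symm.index_eq_card
    obtain ⟨j, hj⟩ := IsPGroup.iff_card.mp P.2
    obtain ⟨k, -, hk⟩ := (Nat.dvd_prime_pow hp.out).mp
      ((Subgroup.index_dvd_of_le hNle).trans (by rw [hidx, hj]))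
    refine ⟨k, ?_⟩
    rw [Subgroup.relIndex, Subgroup.subgroupOf,
      Subgroup.comap_map_eq_self_of_injective K.subtype_injective, hk]

theorem Ctx.fpf (C : Ctx g K p) {Q : Subgroup G} (hQK : Q ≤ K) (hQp : (Nat.card Q).Coprime p)
    {x u : G} (hx : x ∈ commutator G) (hxK : x ∉ K) (hu : u ∈ Q) (hc : x * u = u * x) : u = 1 :=
  C.eq_one_of_commute hx hxK (hQK hu) hc
    (hQp.coprime_dvd_left (Subgroup.orderOf_dvd_natCard Q hu))

/-- The case of a larger quotient. -/
theorem Ctx.big (C : Ctx g K p) (T : Sylow p G) {h₀ : G} (hh : ⁅g, h₀⁆ ∉ K)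
    {Q : Subgroup G} (hQn : Q.Normal) (hQK : Q ≤ K) (hQp : (Nat.card Q).Coprime p)
    (hQi : ∃ k, Q.relIndex K = p ^ k) {y : G} (hyT : y ∈ (T : Subgroup G))
    (hy : y ∈ commutator G) (hyK : y ∉ K) :
    (p ≠ 2 → y ^ p = 1) ∧ (p = 2 → y ^ 4 = 1) := by
  classical
  haveI := C.hyp.normal
  haveI := Fintype.ofFinite G
  haveI := Fintype.ofFinite (G ⧸ K)
  set M := commutator G with hM
  set π := QuotientGroup.mk' K with hπ
  set Mb := M.map π with hMb
  have hab : ∀ a ∈ Mb, ∀ b ∈ Mb, a * b = b * a := by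
    rintro _ ⟨a, ha, rfl⟩ _ ⟨b, hb, rfl⟩
    rw [← commutatorElement_eq_one_iff_mul_comm, ← map_commutatorElement]
    exact (QuotientGroup.eq_one_iff _).mpr (C.commute_mod ha hb)
  haveI hMbn : Mb.Normal := Subgroup.Normal.map inferInstance π (QuotientGroup.mk'_surjective K)
  have hcomMb : ∀ a b : G ⧸ K, ⁅a, b⁆ ∈ Mb := by
    intro a b
    obtain ⟨a, rfl⟩ := QuotientGroup.mk'_surjective K a
    obtain ⟨b, rfl⟩ := QuotientGroup.mk'_surjective K b
    rw [← map_commutatorElement]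
    exact Subgroup.mem_map_of_mem _ (Subgroup.commutator_mem_commutator trivial trivial)
  set Cb := Subgroup.centralizer ({π g} : Set (G ⧸ K)) with hCb
  have hgMb : π g ∈ Mb := ⟨g, C.hyp.mem, rfl⟩
  have hMC : Mb ≤ Cb := fun a ha => Subgroup.mem_centralizer_singleton_iff.mpr (hab a ha _ hgMb)
  haveI hCn : Cb.Normal := ⟨fun a ha x => by
    rw [show x * a * x⁻¹ = ⁅x, a⁆ * a by rw [commutatorElement_def]; group]
    exact mul_mem (hMC (hcomMb x a)) ha⟩
  -- a coset moving the class acts without fixed points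
  have hmove : ∀ a ∈ Mb, a * π h₀ = π h₀ * a → a = 1 := by
    intro a ha hc
    by_contra ha1
    obtain ⟨x, hx, rfl⟩ := ha
    have hxK : x ∉ K := fun h => ha1 ((QuotientGroup.eq_one_iff x).mpr h)
    obtain ⟨c, hc'⟩ := _root_.isConj_iff.mp ((C.hyp.isConj_iff hx hxK g).mpr ⟨C.hyp.mem, C.hyp.notMem⟩)
    refine hh ((QuotientGroup.eq_one_iff _).mp ?_)
    show π ⁅g, h₀⁆ = 1
    rw [map_commutatorElement, commutatorElement_eq_one_iff_mul_comm]
    set d := ⁅(π c)⁻¹, π h₀⁆ with hd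
    have hd' : d * π x = π x * d := hab _ (hcomMb _ _) _ ⟨x, hx, rfl⟩
    have e1 : (π c)⁻¹ * π h₀ * π c = d * π h₀ := by
      rw [hd, commutatorElement_def]; group
    calc π g * π h₀ = π c * (π x * ((π c)⁻¹ * π h₀ * π c)) * (π c)⁻¹ := by
          rw [← hc', map_mul, map_mul, map_inv]; group
      _ = π c * ((π x * d) * π h₀) * (π c)⁻¹ := by rw [e1]; group
      _ = π c * (d * (π x * π h₀)) * (π c)⁻¹ := by rw [← hd']; group
      _ = π c * ((d * π h₀) * π x) * (π c)⁻¹ := by rw [hc]; group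
      _ = π h₀ * π g := by rw [← e1, ← hc', map_mul, map_mul, map_inv]; group
  -- the Sylow subgroup centralizes
  have hTC : ∀ t ∈ (T : Subgroup G), π t ∈ Cb := by
    intro t ht
    have hidx : Cb.index = Nat.card Mb - 1 := by
      rw [hCb, ← Chars.card_filter_isConj, Nat.card_eq_fintype_card, ← Finset.card_univ (α := Mb),
        ← Finset.card_map (Function.Embedding.subtype (· ∈ Mb)) (s := Finset.univ),
        ← Finset.card_erase_of_mem (s := Finset.univ.map (Function.Embedding.subtype (· ∈ Mb)))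
          (a := (1 : G ⧸ K)) (Finset.mem_map.mpr ⟨1, Finset.mem_univ _, rfl⟩)]
      congr 1
      ext z
      simp only [Finset.mem_filter, Finset.mem_univ, true_and, Finset.mem_erase, Finset.mem_map,
        Function.Embedding.coe_subtype, Subtype.exists, exists_prop, exists_eq_right]
      constructor
      · intro hz
        obtain ⟨c, rfl⟩ := _root_.isConj_iff.mp hz
        exact ⟨fun h => C.hyp.notMem ((QuotientGroup.eq_one_iff g).mp (conj_eq_one_iff.mp h)),
          hMbn.conj_mem _ hgMb c⟩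
      · rintro ⟨hz1, x, hx, rfl⟩
        obtain ⟨c, hc⟩ := _root_.isConj_iff.mp
          (C.hyp.conj x hx fun h => hz1 ((QuotientGroup.eq_one_iff x).mpr h))
        exact _root_.isConj_iff.mpr ⟨π c, by rw [← map_inv, ← map_mul, ← map_mul, hc]⟩
    have hpM : p ∣ Nat.card Mb := by
      refine dvd_trans ?_ (orderOf_dvd_natCard (⟨π g, hgMb⟩ : Mb))
      rw [Subgroup.orderOf_mk, orderOf_eq_prime
        (show π g ^ p = 1 by
          rw [← map_pow]; exact (QuotientGroup.eq_one_iff _).mpr (C.pow_mem g C.hyp.mem))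
        (fun h => C.hyp.notMem ((QuotientGroup.eq_one_iff g).mp h))]
    have hcop : Cb.index.Coprime p := by
      rw [hidx, Nat.coprime_comm, hp.out.coprime_iff_not_dvd]
      intro h
      have h1 := Nat.dvd_sub hpM h
      rw [Nat.sub_sub_self (Nat.card_pos (α := Mb))] at h1
      exact hp.out.one_lt.ne' (Nat.dvd_one.mp h1)
    obtain ⟨j, hj⟩ := IsPGroup.iff_orderOf.mp T.2 ⟨t, ht⟩
    rw [Subgroup.orderOf_mk] at hj
    refine (QuotientGroup.eq_one_iff (π t)).mp (orderOf_eq_one_iff.mp ?_)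
    refine Nat.eq_one_of_dvd_coprimes (hcop.pow_right j)
      (by rw [Subgroup.index_eq_card]; exact orderOf_dvd_natCard _) ?_
    rw [← hj]
    exact (orderOf_map_dvd (QuotientGroup.mk' Cb) (π t)).trans (orderOf_map_dvd π t)
  -- hence lies in the derived subgroup
  have hTM : (T : Subgroup G) ≤ M := by
    intro t ht
    let f : Mb →* Mb :=
      { toFun := fun a => ⟨⁅(a : G ⧸ K), π h₀⁆, hcomMb _ _⟩
        map_one' := Subtype.ext (commutatorElement_one_left _)
        map_mul' := fun a b => Subtype.ext (by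
          show ⁅(a : G ⧸ K) * b, π h₀⁆ = ⁅(a : G ⧸ K), π h₀⁆ * ⁅(b : G ⧸ K), π h₀⁆
          calc ⁅(a : G ⧸ K) * b, π h₀⁆ = a * ⁅(b : G ⧸ K), π h₀⁆ * (a : G ⧸ K)⁻¹ * ⁅(a : G ⧸ K), π h₀⁆ := by
                simp only [commutatorElement_def]; group
            _ = ⁅(b : G ⧸ K), π h₀⁆ * ⁅(a : G ⧸ K), π h₀⁆ := by
                rw [hab _ a.2 _ (hcomMb _ _), mul_inv_cancel_right]
            _ = _ := hab _ (hcomMb _ _) _ (hcomMb _ _)) }
    have hf : Function.Surjective f := Finite.injective_iff_surjective.mp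
      ((injective_iff_map_eq_one f).mpr fun a ha => Subtype.ext (hmove a a.2
        (commutatorElement_eq_one_iff_mul_comm.mp (congrArg Subtype.val ha))))
    obtain ⟨⟨a, ha⟩, hae⟩ := hf ⟨⁅π t, π h₀⁆⁻¹, Mb.inv_mem (hcomMb _ _)⟩
    have hae' : ⁅a, π h₀⁆ = ⁅π t, π h₀⁆⁻¹ := congrArg Subtype.val hae
    set t' := a * π t with ht'
    have hu : t' * π h₀ = π h₀ * t' := by
      rw [← commutatorElement_eq_one_iff_mul_comm, ht']
      calc ⁅a * π t, π h₀⁆ = a * ⁅π t, π h₀⁆ * a⁻¹ * ⁅a, π h₀⁆ := by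
            simp only [commutatorElement_def]; group
        _ = ⁅π t, π h₀⁆ * ⁅a, π h₀⁆ := by rw [hab a ha _ (hcomMb _ _), mul_inv_cancel_right]
        _ = 1 := by rw [hae', mul_inv_cancel]
    have hcm : ∀ m ∈ Mb, t' * m = m * t' := by
      rintro _ ⟨x, hx, rfl⟩
      have hCx : π t * π x = π x * π t := by
        by_cases hxK : x ∈ K
        · rw [show π x = 1 from (QuotientGroup.eq_one_iff x).mpr hxK, one_mul, mul_one]
        obtain ⟨c, hc⟩ := _root_.isConj_iff.mp (C.hyp.conj x hx hxK)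
        have hmemC := hCn.conj_mem _ (hTC t ht) (π c)⁻¹
        rw [inv_inv] at hmemC
        have h := Subgroup.mem_centralizer_singleton_iff.mp hmemC
        calc π t * π x = π c * ((π c)⁻¹ * π t * π c * π g) * (π c)⁻¹ := by
              rw [← hc, map_mul, map_mul, map_inv]; group
          _ = π c * (π g * ((π c)⁻¹ * π t * π c)) * (π c)⁻¹ := by rw [h]
          _ = π x * π t := by rw [← hc, map_mul, map_mul, map_inv]; group
      rw [ht', mul_assoc, hCx, ← mul_assoc, hab a ha _ ⟨x, hx, rfl⟩, mul_assoc]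
    have ht'1 : ∀ h : G ⧸ K, ⁅t', h⁆ = 1 := by
      intro h
      refine hmove _ (hcomMb _ _) ?_
      set m := ⁅π h₀, h⁆ with hm
      have hmb : m ∈ Mb := hcomMb _ _
      have e0 : π h₀ * t' * (π h₀)⁻¹ = t' := by rw [← hu]; group
      have e1 : π h₀ * h * (π h₀)⁻¹ = m * h := by rw [hm, commutatorElement_def]; group
      refine (mul_inv_eq_iff_eq_mul.mp ?_).symm
      calc π h₀ * ⁅t', h⁆ * (π h₀)⁻¹
          = ⁅π h₀ * t' * (π h₀)⁻¹, π h₀ * h * (π h₀)⁻¹⁆ := by
            simp only [commutatorElement_def]; group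
        _ = ⁅t', m * h⁆ := by rw [e0, e1]
        _ = (t' * m) * h * t'⁻¹ * h⁻¹ * m⁻¹ := by rw [commutatorElement_def]; group
        _ = m * ⁅t', h⁆ * m⁻¹ := by rw [hcm m hmb, commutatorElement_def]; group
        _ = ⁅t', h⁆ := by rw [hab m hmb _ (hcomMb _ _), mul_inv_cancel_right]
    obtain ⟨t₁, ht₁⟩ := QuotientGroup.mk'_surjective K t'
    have ht₁M := C.hyp.cent t₁ fun h => (QuotientGroup.eq_one_iff _).mp (by
      show π ⁅t₁, h⁆ = 1
      rw [map_commutatorElement, hπ, ht₁]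
      exact ht'1 _)
    have hmem : π t ∈ Mb := by
      rw [show π t = a⁻¹ * t' by rw [ht']; group, ← ht₁]
      exact mul_mem (inv_mem ha) (Subgroup.mem_map_of_mem _ ht₁M)
    obtain ⟨m, hm, hme⟩ := hmem
    rw [show t = m * (m⁻¹ * t) by group]
    exact mul_mem hm (C.hyp.le (QuotientGroup.eq.mp hme))
  -- the Sylow subgroup with its normalizer
  set TT := ↥(T : Subgroup G)
  have hD : commutator TT = K.subgroupOf (T : Subgroup G) := by
    refine le_antisymm ?_ (C.inf_le_commutator T)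
    rw [commutator_def, Subgroup.commutator_le]
    intro a _ b _
    exact Subgroup.mem_subgroupOf.mpr (C.commute_mod (hTM a.2) (hTM b.2))
  have hmemD : ∀ x : TT, x ∈ commutator TT ↔ (x : G) ∈ K := fun x => by
    rw [hD, Subgroup.mem_subgroupOf]
  set N := Subgroup.normalizer ((T : Subgroup G) : Set G)
  have hNM : N ⊓ M ≤ (T : Subgroup G) := by
    have hpg : IsPGroup p ↥(N ⊓ M) := Core.ThompsonComplement.isPGroup_of_forall_coprime fun m hm hop => by
      have hmK : m ∈ K := by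
        refine (QuotientGroup.eq_one_iff m).mp (orderOf_eq_one_iff.mp ?_)
        refine Nat.eq_one_of_dvd_coprimes hop (orderOf_map_dvd π m) (orderOf_dvd_of_pow_eq_one ?_)
        show π m ^ p = 1
        rw [← map_pow]
        exact (QuotientGroup.eq_one_iff _).mpr (C.pow_mem m hm.2)
      have hmQ : m ∈ Q := by
        obtain ⟨k, hk⟩ := hQi
        haveI : (Q.subgroupOf K).Normal := Subgroup.Normal.subgroupOf hQn K
        have h1 : (QuotientGroup.mk' (Q.subgroupOf K)) ⟨m, hmK⟩ = 1 := orderOf_eq_one_iff.mp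
          (Nat.eq_one_of_dvd_coprimes (hop.pow_right k)
            ((orderOf_map_dvd _ _).trans (by rw [Subgroup.orderOf_mk]))
            (by rw [← hk, Subgroup.relIndex, Subgroup.index_eq_card]; exact orderOf_dvd_natCard _))
        exact Subgroup.mem_subgroupOf.mp ((QuotientGroup.eq_one_iff _).mp h1)
      refine C.fpf hQK hQp hy hyK hmQ ?_
      rw [← commutatorElement_eq_one_iff_mul_comm]
      have hT' : ⁅y, m⁆ ∈ (T : Subgroup G) := by
        rw [show ⁅y, m⁆ = y * (m * y⁻¹ * m⁻¹) by rw [commutatorElement_def]; group]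
        exact mul_mem hyT ((Subgroup.mem_normalizer_iff.mp hm.1 _).mp (inv_mem hyT))
      have hQ' : ⁅y, m⁆ ∈ Q := by
        rw [commutatorElement_def]
        exact mul_mem (hQn.conj_mem m hmQ y) (inv_mem hmQ)
      obtain ⟨j, hj⟩ := IsPGroup.iff_orderOf.mp T.2 ⟨_, hT'⟩
      rw [Subgroup.orderOf_mk] at hj
      rw [← orderOf_eq_one_iff]
      exact Nat.eq_one_of_dvd_coprimes
        ((hQp.coprime_dvd_left (Subgroup.orderOf_dvd_natCard Q hQ')).pow_right j) dvd_rfl hj.dvd
    intro m hm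
    exact ((hpg.inf_normalizer_sylow T).le ⟨hm, hm.1⟩).2
  let φ : N →* MulAut TT := Subgroup.normalizerMonoidHom (T : Subgroup G)
  have hφ : ∀ (n : N) (x : TT), ((φ n x : TT) : G) = (n : G) * x * (n : G)⁻¹ := fun n x => rfl
  have hDat : Camina.Data TT p φ := by
    refine ⟨T.2, fun x => (hmemD _).mpr (C.pow_mem x (hTM x.2)), fun x hx c hc => ?_,
      fun x hx x' hx' => ?_, fun b c => ?_⟩
    · obtain ⟨t, ht, hte⟩ := C.full T x.2 (hTM x.2) (fun h => hx ((hmemD x).mpr h))
        (fun t ht => C.commute_mod (hTM x.2) (hTM ht)) c.2 ((hmemD c).mp hc)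
      exact ⟨⟨t, ht⟩, Subtype.ext hte⟩
    · obtain ⟨c, hc⟩ := _root_.isConj_iff.mp ((C.hyp.isConj_iff (hTM x.2)
        (fun h => hx ((hmemD x).mpr h)) x').mpr ⟨hTM x'.2, fun h => hx' ((hmemD x').mpr h)⟩)
      have htop := Sylow.normalizer_sup_eq_top' T hTM
      have hcN : c ∈ Subgroup.normalizer ((T : Subgroup G) : Set G) ⊔ M := by
        rw [show Subgroup.normalizer ((T : Subgroup G) : Set G) ⊔ M = ⊤ from htop]; trivial
      obtain ⟨n, hn, m, hm, rfl⟩ := Subgroup.mem_sup_of_normal_right.mp hcN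
      refine ⟨⟨n, hn⟩, (hmemD _).mpr ?_⟩
      show ((φ ⟨n, hn⟩ x : TT) : G)⁻¹ * (x' : G) ∈ K
      rw [hφ, ← hc]
      have hmx : ⁅(x : G)⁻¹, m⁆ ∈ K := C.commute_mod (inv_mem (hTM x.2)) hm
      have := Subgroup.Normal.conj_mem (H := K) inferInstance _ hmx n
      rwa [show n * ⁅(x : G)⁻¹, m⁆ * n⁻¹ = (n * x * n⁻¹)⁻¹ * (n * m * x * (n * m)⁻¹) by
        simp only [commutatorElement_def]; group] at this
    · have hmem : ((b * c * b⁻¹ * c⁻¹ : N) : G) ∈ (T : Subgroup G) := hNM ⟨(b * c * b⁻¹ * c⁻¹ : N).2,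
        by
          rw [show ((b * c * b⁻¹ * c⁻¹ : N) : G) = ⁅(b : G), (c : G)⁆ by
            simp [commutatorElement_def]]
          exact Subgroup.commutator_mem_commutator trivial trivial⟩
      exact ⟨⟨_, hmem⟩, fun x => Subtype.ext (hφ _ x)⟩
  have h := Camina.pow_eq_one hDat (⟨y, hyT⟩ : TT)
  exact ⟨fun h2 => congrArg Subtype.val (h.1 h2), fun h2 => congrArg Subtype.val (h.2 h2)⟩

/-- The case of a central class. -/
theorem Ctx.small (C : Ctx g K p) (T : Sylow p G) (hc : ∀ h : G, ⁅g, h⁆ ∈ K) :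
    p = 2 ∧ ∃ y ∈ commutator G, y ∉ K ∧ y ^ 4 = 1 := by
  classical
  haveI := C.hyp.normal
  set M := commutator G
  set π := QuotientGroup.mk' K with hπ
  have hval : ∀ x ∈ M, π x = 1 ∨ π x = π g := by
    intro x hx
    by_cases hxK : x ∈ K
    · exact Or.inl ((QuotientGroup.eq_one_iff x).mpr hxK)
    obtain ⟨c, hc'⟩ := _root_.isConj_iff.mp (C.hyp.conj x hx hxK)
    refine Or.inr ?_
    have h1 := hc c
    rw [← QuotientGroup.eq_one_iff] at h1
    have h2 : π g * π c = π c * π g := by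
      rw [← commutatorElement_eq_one_iff_mul_comm, ← map_commutatorElement]; exact h1
    rw [← hc', map_mul, map_mul, map_inv, ← h2, mul_inv_cancel_right]
  have hg1 : π g ≠ 1 := fun h => C.hyp.notMem ((QuotientGroup.eq_one_iff g).mp h)
  have hgp : orderOf (π g) = p := orderOf_eq_prime
    (show π g ^ p = 1 by rw [← map_pow]; exact (QuotientGroup.eq_one_iff _).mpr (C.pow_mem g C.hyp.mem))
    hg1
  have hg2 : π g ^ 2 = 1 := by
    rcases hval g⁻¹ (inv_mem C.hyp.mem) with h | h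
    · exact absurd (inv_eq_one.mp ((map_inv π g).symm.trans h)) hg1
    · rw [map_inv] at h
      rw [pow_two]
      nth_rw 1 [← h]
      rw [inv_mul_cancel]
  have hp2 : p = 2 := (Nat.prime_dvd_prime_iff_eq hp.out Nat.prime_two).mp
    (hgp ▸ orderOf_dvd_of_pow_eq_one hg2)
  subst hp2
  refine ⟨rfl, ?_⟩
  have hcomm : ∀ a b : G ⧸ K, ⁅a, b⁆ = 1 ∨ ⁅a, b⁆ = π g := by
    intro a b
    obtain ⟨a, rfl⟩ := QuotientGroup.mk'_surjective K a
    obtain ⟨b, rfl⟩ := QuotientGroup.mk'_surjective K b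
    rw [← map_commutatorElement]
    exact hval _ (Subgroup.commutator_mem_commutator trivial trivial)
  have hgc : ∀ b : G ⧸ K, π g * b = b * π g := by
    intro b
    obtain ⟨b, rfl⟩ := QuotientGroup.mk'_surjective K b
    rw [← commutatorElement_eq_one_iff_mul_comm, ← map_commutatorElement]
    exact (QuotientGroup.eq_one_iff _).mpr (hc b)
  have hcz : ∀ a b : G ⧸ K, ∀ x, ⁅a, b⁆ * x = x * ⁅a, b⁆ := by
    intro a b x
    rcases hcomm a b with h | h <;> rw [h]
    · rw [one_mul, mul_one]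
    · exact hgc x
  have hcsq : ∀ a b : G ⧸ K, ⁅a, b⁆ * ⁅a, b⁆ = 1 := by
    intro a b
    rcases hcomm a b with h | h <;> rw [h]
    · rw [one_mul]
    · rw [← pow_two]; exact hg2
  -- the quotient is a 2-group
  have hsq : ∀ x : G, x ^ 2 ∈ M := fun x => C.hyp.cent _ fun h => (QuotientGroup.eq_one_iff _).mp (by
    show π ⁅x ^ 2, h⁆ = 1
    rw [map_commutatorElement, map_pow, pow_two]
    calc ⁅π x * π x, π h⁆ = π x * ⁅π x, π h⁆ * (π x)⁻¹ * ⁅π x, π h⁆ := by
          simp only [commutatorElement_def]; group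
      _ = ⁅π x, π h⁆ * ⁅π x, π h⁆ := by rw [← hcz (π x) (π h) (π x), mul_inv_cancel_right]
      _ = 1 := hcsq _ _)
  have hQ2 : IsPGroup 2 (G ⧸ K) := by
    intro z
    obtain ⟨x, rfl⟩ := QuotientGroup.mk'_surjective K z
    refine ⟨2, ?_⟩
    rcases hval _ (hsq x) with h | h
    · rw [show (2 : ℕ) ^ 2 = 2 * 2 from rfl, pow_mul, ← map_pow, h, one_pow]
    · rw [show (2 : ℕ) ^ 2 = 2 * 2 from rfl, pow_mul, ← map_pow, h]; exact hg2
  have hTsurj : ∀ z : G ⧸ K, ∃ t ∈ (T : Subgroup G), π t = z := by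
    intro z
    let Tb : Sylow 2 (G ⧸ K) := T.mapSurjective (QuotientGroup.mk'_surjective K)
    haveI : (⊤ : Subgroup (G ⧸ K)).Normal := inferInstance
    have h := (hQ2.to_subgroup ⊤).le_sylow_of_normal Tb (Subgroup.mem_top z)
    rw [Sylow.coe_mapSurjective] at h
    obtain ⟨t, ht, hte⟩ := h
    exact ⟨t, ht, hte⟩
  have hnab : ∃ a b : G ⧸ K, ⁅a, b⁆ ≠ 1 := by
    by_contra h
    push Not at h
    refine C.hyp.notMem ?_
    have : commutator G ≤ K := by
      rw [commutator_def, Subgroup.commutator_le]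
      intro a _ b _
      refine (QuotientGroup.eq_one_iff _).mp ?_
      show π ⁅a, b⁆ = 1
      rw [map_commutatorElement]; exact h _ _
    exact this C.hyp.mem
  set TT := ↥(T : Subgroup G)
  let πT : TT →* G ⧸ K := π.comp (T : Subgroup G).subtype
  have hπT : Function.Surjective πT := fun z => by
    obtain ⟨t, ht, hte⟩ := hTsurj z
    exact ⟨⟨t, ht⟩, hte⟩
  set P0 := K.subgroupOf (T : Subgroup G) with hP0
  obtain ⟨a₀, b₀, hab₀⟩ := hnab
  obtain ⟨a₀, rfl⟩ := hπT a₀
  obtain ⟨b₀, rfl⟩ := hπT b₀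
  set y : TT := ⁅a₀, b₀⁆ with hy
  have hyM : (y : G) ∈ M := by
    rw [hy, show ((⁅a₀, b₀⁆ : TT) : G) = ⁅(a₀ : G), (b₀ : G)⁆ from rfl]
    exact Subgroup.commutator_mem_commutator trivial trivial
  have hπy : πT y = π g := by
    rw [hy, map_commutatorElement]
    exact (hcomm _ _).resolve_left hab₀
  have hyK : (y : G) ∉ K := fun h => hg1 (hπy ▸ (QuotientGroup.eq_one_iff _).mpr h)
  have hcT : ∀ t ∈ (T : Subgroup G), ⁅(y : G), t⁆ ∈ K := fun t ht => (QuotientGroup.eq_one_iff _).mp (by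
    show π ⁅(y : G), t⁆ = 1
    rw [map_commutatorElement, commutatorElement_eq_one_iff_mul_comm]
    rw [show π (y : G) = π g from hπy]
    exact hgc _)
  have hfull : ∀ c ∈ P0, ∃ t : TT, t * y * t⁻¹ = y * c := fun c hc => by
    obtain ⟨t, ht, hte⟩ := C.full T y.2 hyM hyK hcT c.2 (Subgroup.mem_subgroupOf.mp hc)
    exact ⟨⟨t, ht⟩, Subtype.ext hte⟩
  have hy2 : y ^ 2 ∈ P0 := Subgroup.mem_subgroupOf.mpr (C.pow_mem _ hyM)
  refine ⟨y, hyM, hyK, ?_⟩
  suffices h : y ^ 4 = 1 from congrArg Subtype.val h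
  by_cases hA : ∀ x : G ⧸ K, ∃ a b : G ⧸ K, ⁅a, x⁆ = 1 ∧ ⁅b, x⁆ = 1 ∧ ⁅a, b⁆ ≠ 1
  · -- the kernel meets the Sylow subgroup trivially
    set Γ := ⁅P0, (⊤ : Subgroup TT)⁆
    haveI : P0.Normal := inferInstance
    set q := QuotientGroup.mk' Γ
    have hP0c : ∀ c ∈ P0, ∀ z, q c * z = z * q c := by
      intro c hc z
      obtain ⟨x, rfl⟩ := QuotientGroup.mk'_surjective Γ z
      rw [← commutatorElement_eq_one_iff_mul_comm, ← map_commutatorElement]
      exact (QuotientGroup.eq_one_iff _).mpr (Subgroup.commutator_mem_commutator hc trivial)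
    have hycent : ∀ x : TT, q y * q x = q x * q y := by
      intro x
      obtain ⟨a, b, hax, hbx, hab⟩ := hA (πT x)
      obtain ⟨a, rfl⟩ := hπT a
      obtain ⟨b, rfl⟩ := hπT b
      have hm : ∀ a : TT, ⁅πT a, πT x⁆ = 1 → ⁅a, x⁆ ∈ P0 := fun a h => by
        rw [hP0, Subgroup.mem_subgroupOf]
        refine (QuotientGroup.eq_one_iff _).mp ?_
        rw [← map_commutatorElement] at h
        exact h
      obtain ⟨c₁, hc₁, e₁⟩ : ∃ c ∈ P0, q a * q x * (q a)⁻¹ = q x * q c :=
        ⟨⁅a, x⁆, hm a hax, by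
          rw [← hP0c _ (hm a hax), map_commutatorElement, commutatorElement_def, inv_mul_cancel_right]⟩
      obtain ⟨c₂, hc₂, e₂⟩ : ∃ c ∈ P0, q b * q x * (q b)⁻¹ = q x * q c :=
        ⟨⁅b, x⁆, hm b hbx, by
          rw [← hP0c _ (hm b hbx), map_commutatorElement, commutatorElement_def, inv_mul_cancel_right]⟩
      have hab2 : q ⁅a, b⁆ * q x = q x * q ⁅a, b⁆ := by
        rw [map_commutatorElement]
        exact commute_of_translate e₁ e₂ (hP0c c₁ hc₁) (hP0c c₂ hc₂)
      have hye : ⁅a, b⁆⁻¹ * y ∈ P0 := by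
        rw [hP0, Subgroup.mem_subgroupOf]
        refine (QuotientGroup.eq_one_iff _).mp ?_
        show πT (⁅a, b⁆⁻¹ * y) = 1
        rw [map_mul, map_inv, hπy, map_commutatorElement, (hcomm _ _).resolve_left hab, inv_mul_cancel]
      rw [show y = ⁅a, b⁆ * (⁅a, b⁆⁻¹ * y) from (mul_inv_cancel_left _ _).symm, map_mul, mul_assoc, hP0c _ hye, ← mul_assoc,
        hab2, mul_assoc]
    have hle : P0 ≤ Γ := by
      intro c hc
      obtain ⟨t, ht⟩ := hfull c hc
      refine (QuotientGroup.eq_one_iff _).mp ?_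
      show q c = 1
      rw [show c = y⁻¹ * (t * y * t⁻¹) by rw [ht, inv_mul_cancel_left], map_mul, map_mul, map_mul, map_inv, map_inv,
        ← hycent t]
      group
    haveI : Group.IsNilpotent TT := T.2.isNilpotent
    haveI : Group.IsNilpotent (⊤ : Subgroup TT) := Core.isNilpotent_top_iff.mpr inferInstance
    have hbot : P0 = ⊥ := Transfer.eq_bot_of_le_commutator le_top hle
    rw [show (4 : ℕ) = 2 * 2 from rfl, pow_mul,
      show y ^ 2 = 1 from Subgroup.mem_bot.mp (hbot ▸ hy2), one_pow]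
  · -- the quotient has order eight
    push Not at hA
    obtain ⟨x₀, hx₀⟩ := hA
    let Cx : Subgroup (G ⧸ K) := Subgroup.centralizer {x₀}
    have hCx : ∀ a ∈ Cx, ∀ b ∈ Cx, a * b = b * a := fun a ha b hb =>
      commutatorElement_eq_one_iff_mul_comm.mp (hx₀ a b
        (commutatorElement_eq_one_iff_mul_comm.mpr (Subgroup.mem_centralizer_singleton_iff.mp ha))
        (commutatorElement_eq_one_iff_mul_comm.mpr (Subgroup.mem_centralizer_singleton_iff.mp hb)))
    let ρ : (G ⧸ K) →* (G ⧸ K) :=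
      { toFun := fun a => ⁅a, x₀⁆
        map_one' := commutatorElement_one_left _
        map_mul' := fun a b => by
          calc ⁅a * b, x₀⁆ = a * ⁅b, x₀⁆ * a⁻¹ * ⁅a, x₀⁆ := by
                simp only [commutatorElement_def]; group
            _ = ⁅b, x₀⁆ * ⁅a, x₀⁆ := by rw [← hcz b x₀ a, mul_inv_cancel_right]
            _ = ⁅a, x₀⁆ * ⁅b, x₀⁆ := (hcz _ _ _) }
    have hr2 : ∀ a b : G ⧸ K, Nat.card (({1, π g} : Set (G ⧸ K))) ≤ 2 := fun _ _ => by
      rw [Nat.card_coe_set_eq]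
      exact (Set.ncard_insert_le _ _).trans (by rw [Set.ncard_singleton])
    have hker : ρ.ker = Cx := by
      ext a
      rw [MonoidHom.mem_ker, Subgroup.mem_centralizer_singleton_iff]
      exact commutatorElement_eq_one_iff_mul_comm
    have hidx : Cx.index ≤ 2 := by
      rw [← hker, Subgroup.index_ker]
      refine le_trans ?_ (hr2 1 1)
      exact Nat.card_le_card_of_injective
        (fun z : ρ.range => (⟨(z : G ⧸ K), by
          obtain ⟨a, ha⟩ := z.2
          rw [← ha]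
          exact hcomm a x₀⟩ : ({1, π g} : Set (G ⧸ K)))) fun a b e => Subtype.ext
          (congrArg (fun w : ({1, π g} : Set (G ⧸ K)) => (w : G ⧸ K)) e)
    obtain ⟨h₁, hh₁⟩ : ∃ h, h ∉ Cx := by
      by_contra h
      push Not at h
      exact hab₀ (commutatorElement_eq_one_iff_mul_comm.mpr (hCx _ (h _) _ (h _)))
    have hCx4 : Nat.card Cx ≤ 4 := by
      let ρ' : Cx →* (G ⧸ K) :=
        { toFun := fun a => ⁅(a : G ⧸ K), h₁⁆
          map_one' := commutatorElement_one_left _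
          map_mul' := fun a b => by
            calc ⁅(a : G ⧸ K) * b, h₁⁆ = a * ⁅(b : G ⧸ K), h₁⁆ * (a : G ⧸ K)⁻¹ * ⁅(a : G ⧸ K), h₁⁆ := by
                  simp only [commutatorElement_def]; group
              _ = ⁅(b : G ⧸ K), h₁⁆ * ⁅(a : G ⧸ K), h₁⁆ := by
                  rw [← hcz (b : G ⧸ K) h₁ a, mul_inv_cancel_right]
              _ = ⁅(a : G ⧸ K), h₁⁆ * ⁅(b : G ⧸ K), h₁⁆ := hcz _ _ _ }
      have h1 : Nat.card ρ'.range ≤ 2 := by
        refine le_trans ?_ (hr2 1 1)
        exact Nat.card_le_card_of_injective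
          (fun z : ρ'.range => (⟨(z : G ⧸ K), by
            obtain ⟨a, ha⟩ := z.2
            rw [← ha]
            exact hcomm a h₁⟩ : ({1, π g} : Set (G ⧸ K)))) fun a b e => Subtype.ext
          (congrArg (fun w : ({1, π g} : Set (G ⧸ K)) => (w : G ⧸ K)) e)
      have h2 : Nat.card ρ'.ker ≤ 2 := by
        refine le_trans ?_ (hr2 1 1)
        refine Nat.card_le_card_of_injective (fun z : ρ'.ker => (⟨((z : Cx) : G ⧸ K), ?_⟩ :
          ({1, π g} : Set (G ⧸ K)))) fun a b e => Subtype.ext (Subtype.ext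
          (congrArg (fun w : ({1, π g} : Set (G ⧸ K)) => (w : G ⧸ K)) e))
        obtain ⟨x, hx⟩ := QuotientGroup.mk'_surjective K ((z : Cx) : G ⧸ K)
        have hz : ∀ w : G ⧸ K, ((z : Cx) : G ⧸ K) * w = w * (z : Cx) := by
          have hCz : ∀ w ∈ Cx, w ∈ Subgroup.centralizer ({((z : Cx) : G ⧸ K)} : Set (G ⧸ K)) :=
            fun w hw => Subgroup.mem_centralizer_singleton_iff.mpr (hCx w hw _ (z : Cx).2)
          have hh : h₁ ∈ Subgroup.centralizer ({((z : Cx) : G ⧸ K)} : Set (G ⧸ K)) :=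
            Subgroup.mem_centralizer_singleton_iff.mpr
              (commutatorElement_eq_one_iff_mul_comm.mp (MonoidHom.mem_ker.mp z.2)).symm
          have hCi : Cx.index = 2 := by
            have h0 : Cx.index ≠ 0 := Subgroup.index_ne_zero_of_finite
            have h1' : Cx.index ≠ 1 := fun h => hh₁ (by rw [Subgroup.index_eq_one.mp h]; trivial)
            omega
          intro w
          have hw : w ∈ Subgroup.centralizer ({((z : Cx) : G ⧸ K)} : Set (G ⧸ K)) := by
            by_cases hwC : w ∈ Cx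
            · exact hCz w hwC
            · have : w * h₁ ∈ Cx := (Subgroup.mul_mem_iff_of_index_two hCi).mpr
                ⟨fun h => absurd h hwC, fun h => absurd h hh₁⟩
              have := mul_mem (hCz _ this) (inv_mem hh)
              rwa [mul_inv_cancel_right] at this
          exact (Subgroup.mem_centralizer_singleton_iff.mp hw).symm
        rw [← hx]
        refine hval x (C.hyp.cent x fun h => (QuotientGroup.eq_one_iff _).mp ?_)
        show π ⁅x, h⁆ = 1
        rw [map_commutatorElement, commutatorElement_eq_one_iff_mul_comm, hπ, hx]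
        exact hz _
      have := ρ'.ker.card_mul_index
      rw [Subgroup.index_ker] at this
      rw [← this]
      exact (Nat.mul_le_mul h2 h1)
    obtain ⟨n, hn⟩ := IsPGroup.iff_card.mp hQ2
    have hn3 : n = 3 := by
      have hle : Nat.card (G ⧸ K) ≤ 8 := by
        rw [← Cx.card_mul_index]
        exact Nat.mul_le_mul hCx4 hidx
      have hge : ¬ n ≤ 2 := by
        intro hn2
        refine hab₀ (commutatorElement_eq_one_iff_mul_comm.mpr ?_)
        interval_cases n
        · haveI : Subsingleton (G ⧸ K) := (Nat.card_eq_one_iff_unique.mp (by rw [hn, pow_zero])).1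
          exact Subsingleton.elim _ _
        · rw [pow_one] at hn
          haveI := isCyclic_of_prime_card hn
          letI := IsCyclic.commGroup (α := G ⧸ K)
          exact mul_comm _ _
        · letI := IsPGroup.commGroupOfCardEqPrimeSq hn
          exact mul_comm _ _
      rw [hn] at hle
      have : n ≤ 3 := (Nat.pow_le_pow_iff_right (le_refl 2)).mp hle
      omega
    have hQ8 : Nat.card (G ⧸ K) = 8 := by rw [hn, hn3]; rfl
    have hMc : commutator (G ⧸ K) = Subgroup.zpowers (π g) := by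
      refine le_antisymm ?_ (Subgroup.zpowers_le.mpr ?_)
      · rw [commutator_def, Subgroup.commutator_le]
        intro a _ b _
        rcases hcomm a b with h | h <;> rw [h]
        exacts [one_mem _, Subgroup.mem_zpowers _]
      · rw [← hπy, hy, map_commutatorElement]
        exact Subgroup.commutator_mem_commutator trivial trivial
    have hker2 : πT.ker = P0 := by
      ext z
      rw [MonoidHom.mem_ker, hP0, Subgroup.mem_subgroupOf]
      exact QuotientGroup.eq_one_iff _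
    have h4 : (commutator TT).index = 4 := by
      have hmap : (commutator TT).map πT = commutator (G ⧸ K) := by
        rw [commutator_def, Subgroup.map_commutator, commutator_def,
          Subgroup.map_top_of_surjective _ hπT]
      have hle : πT.ker ≤ commutator TT := by rw [hker2]; exact C.inf_le_commutator T
      rw [← Subgroup.comap_map_eq_self hle, Subgroup.index_comap_of_surjective _ hπT, hmap, hMc]
      have := (Subgroup.zpowers (π g)).card_mul_index
      rw [Nat.card_zpowers, hgp, hQ8] at this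
      omega
    obtain ⟨m, hm⟩ := IsPGroup.iff_card.mp T.2
    have hcT8 : Nat.card TT = Nat.card P0 * 8 := by
      rw [← hker2, ← hQ8, ← πT.ker.card_mul_index, Subgroup.index_ker,
        MonoidHom.range_eq_top.mpr hπT, Subgroup.card_top]
    have hm3 : 3 ≤ m := by
      refine (Nat.pow_le_pow_iff_right (le_refl 2)).mp ?_
      rw [← hm, hcT8]
      exact Nat.le_mul_of_pos_left 8 Nat.card_pos
    obtain ⟨⟨D, hDc, hD2⟩, -⟩ := Transfer.MaxClass.taussky m TT hm3 hm h4
    have hyD : y ∈ D := by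
      rw [hy, commutatorElement_def]
      simp only [Subgroup.mul_mem_iff_of_index_two hD2, Subgroup.inv_mem_iff]
      by_cases ha : a₀ ∈ D <;> by_cases hb : b₀ ∈ D <;> simp [ha, hb]
    have hDy : D.map (T : Subgroup G).subtype ≤
        (T : Subgroup G) ⊓ Subgroup.centralizer ({(y : G)} : Set G) := by
      rintro _ ⟨d, hd, rfl⟩
      refine ⟨d.2, Subgroup.mem_centralizer_singleton_iff.mpr ?_⟩
      haveI := hDc
      letI := IsCyclic.commGroup (α := D)
      exact congrArg (fun z : D => ((z : TT) : G)) (mul_comm (⟨d, hd⟩ : D) ⟨y, hyD⟩)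
    have h1 := C.mul_le T hyM hyK
    have hP0c : Nat.card ↥((T : Subgroup G) ⊓ K) = Nat.card P0 := by
      rw [hP0, ← Subgroup.inf_subgroupOf_left, Core.card_subgroupOf inf_le_left]
    have hDcard : Nat.card D * 2 = Nat.card TT := (congrArg (Nat.card D * ·) hD2.symm).trans D.card_mul_index
    have h2 := Subgroup.card_le_of_le hDy
    rw [Core.card_map_subtype] at h2
    rw [hP0c] at h1
    have hP02 : Nat.card P0 ≤ 2 := by
      have hpos : 0 < Nat.card D := Nat.card_pos
      have h3 : Nat.card D * Nat.card P0 ≤ Nat.card D * 2 :=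
        (Nat.mul_le_mul_right _ h2).trans (h1.trans hDcard.ge)
      exact Nat.le_of_mul_le_mul_left h3 hpos
    have hy4 : (⟨y ^ 2, hy2⟩ : P0) ^ 2 = 1 := by
      rcases Nat.lt_or_ge (Nat.card P0) 2 with h | h
      · haveI : Subsingleton P0 := (Nat.card_eq_one_iff_unique.mp
          (by have := Nat.card_pos (α := P0); omega)).1
        exact Subsingleton.elim _ _
      · have := pow_card_eq_one' (x := (⟨y ^ 2, hy2⟩ : P0))
        rwa [show Nat.card P0 = 2 by omega] at this
    rw [show (4 : ℕ) = 2 * 2 from rfl, pow_mul]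
    exact congrArg Subtype.val hy4

/-- Solvability. -/
theorem Hyp.isSolvable (H : Hyp g K) : Group.IsSolvable G := by
  haveI := H.normal
  obtain ⟨p, hp', hpow, hpel⟩ := H.exists_prime
  haveI : Fact p.Prime := ⟨hp'⟩
  have C : Ctx g K p := ⟨H, hpow, hpel⟩
  obtain ⟨T⟩ : Nonempty (Sylow p G) := inferInstance
  obtain ⟨Q, hQn, hQK, hQp, hQi⟩ := C.exists_core T
  haveI := hQn
  set M := commutator G
  -- the quotient
  have hs1 : Group.IsSolvable (G ⧸ K) := by
    set π := QuotientGroup.mk' K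
    haveI : Group.IsSolvable (M.map π) := Group.isSolvable_of_comm fun a b => Subtype.ext (by
      obtain ⟨x, hx, hxe⟩ := a.2
      obtain ⟨z, hz, hze⟩ := b.2
      show (a : G ⧸ K) * b = b * a
      rw [← hxe, ← hze, ← commutatorElement_eq_one_iff_mul_comm, ← map_commutatorElement]
      exact (QuotientGroup.eq_one_iff _).mpr (C.commute_mod hx hz))
    haveI : (M.map π).Normal := Subgroup.Normal.map inferInstance π (QuotientGroup.mk'_surjective K)
    haveI : Group.IsSolvable ((G ⧸ K) ⧸ M.map π) := Group.isSolvable_of_comm fun a b => by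
      obtain ⟨a', rfl⟩ := QuotientGroup.mk'_surjective (M.map π) a
      obtain ⟨b', rfl⟩ := QuotientGroup.mk'_surjective (M.map π) b
      obtain ⟨a'', rfl⟩ := QuotientGroup.mk'_surjective K a'
      obtain ⟨b'', rfl⟩ := QuotientGroup.mk'_surjective K b'
      rw [← commutatorElement_eq_one_iff_mul_comm, ← map_commutatorElement, ← map_commutatorElement]
      exact (QuotientGroup.eq_one_iff _).mpr
        (Subgroup.mem_map_of_mem π (Subgroup.commutator_mem_commutator trivial trivial))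
    exact Group.isSolvable_of_ker_le_range (M.map π).subtype (QuotientGroup.mk' (M.map π))
      (by rw [QuotientGroup.ker_mk', Subgroup.range_subtype])
  -- the fixed-point-free element
  have hQs : Group.IsSolvable Q := by
    have key : ∀ y ∈ M, y ∉ K → (y ^ p = 1 ∨ y ^ 4 = 1) → Group.IsSolvable Q := by
      intro y hy hyK hpw
      let φ : MulAut Q := MulAut.conjNormal (H := Q) y
      have hφ : ∀ n (x : Q), (((φ ^ n) x : Q) : G) = y ^ n * x * (y ^ n)⁻¹ := by
        intro n x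
        rw [← map_pow, MulAut.conjNormal_apply]
      have hfpf : ∀ x : Q, φ x = x → x = 1 := fun x hx => Subtype.ext
        (C.fpf hQK hQp hy hyK x.2 (mul_inv_eq_iff_eq_mul.mp (congrArg Subtype.val hx)))
      rcases hpw with h | h
      · have := Core.ThompsonFPF.isNilpotent_of_fpf hp' φ hfpf fun x => by
          have h1 : ∀ n, ((φ : Q → Q)^[n]) x = (φ ^ n) x := by
            intro n
            induction n with
            | zero => rfl
            | succ n ih => rw [Function.iterate_succ_apply', ih, pow_succ', MulAut.mul_apply]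
          rw [h1]
          refine Subtype.ext ?_
          rw [hφ, h, one_mul, inv_one, mul_one]
        infer_instance
      · refine isSolvable_of_fpf_four φ (MulEquiv.ext fun x => Subtype.ext ?_) hfpf
        rw [hφ, h, one_mul, inv_one, mul_one]
        rfl
    by_cases hbig : ∀ h : G, ⁅g, h⁆ ∈ K
    · obtain ⟨-, y, hy, hyK, hy4⟩ := C.small T hbig
      exact key y hy hyK (Or.inr hy4)
    · push Not at hbig
      obtain ⟨h₀, hh₀⟩ := hbig
      obtain ⟨y, hyT, hy, hyK, -⟩ := C.exists_central T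
      have h := C.big T hh₀ hQn hQK hQp hQi hyT hy hyK
      by_cases h2 : p = 2
      · exact key y hy hyK (Or.inr (h.2 h2))
      · exact key y hy hyK (Or.inl (h.1 h2))
  have hs2 : Group.IsSolvable K := by
    haveI : (Q.subgroupOf K).Normal := Subgroup.Normal.subgroupOf hQn K
    haveI : Group.IsSolvable (Q.subgroupOf K) :=
      Group.isSolvable_of_isSolvable_injective (f := (Subgroup.subgroupOfEquivOfLe hQK).toMonoidHom)
        (Subgroup.subgroupOfEquivOfLe hQK).injective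
    obtain ⟨k, hk⟩ := hQi
    have hpg : IsPGroup p (K ⧸ Q.subgroupOf K) := IsPGroup.of_card (n := k) (by
      rw [← Subgroup.index_eq_card]; exact hk)
    haveI : Group.IsNilpotent (K ⧸ Q.subgroupOf K) := hpg.isNilpotent
    exact Group.isSolvable_of_ker_le_range (Q.subgroupOf K).subtype
      (QuotientGroup.mk' (Q.subgroupOf K)) (by rw [QuotientGroup.ker_mk', Subgroup.range_subtype])
  haveI := hs1
  haveI := hs2
  exact Group.isSolvable_of_ker_le_range K.subtype (QuotientGroup.mk' K)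
    (by rw [QuotientGroup.ker_mk', Subgroup.range_subtype])

end Cfsg.Agent.FPF4.OneClass
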